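import Groth.Agent.UFDExtLib.Main
import Groth.Agent.DevissLib.Basic

/-!
# Extension of an invertible module from an arbitrary open
-/

set_option autoImplicit false
universe u

open CategoryTheory CategoryTheory.Limits AlgebraicGeometry TopologicalSpace Opposite
open DevissLib (St gm)
open AmpleLib (res GenAt GenOn)

noncomputable section

namespace UFDExtLib

variable {X : Scheme.{u}}

/-- Sections of a direct image from an open only depend on the part inside the open. -/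
theorem res_push_bijective (U : X.Opens) (M : (U : Scheme.{u}).Modules) {W W' : X.Opens} (h : W' ≤ W)
    (hW : W ⊓ U ≤ W') : Function.Bijective (res ((Scheme.Modules.pushforward U.ι).obj M) h) := by
  have he : U.ι ⁻¹ᵁ W' = U.ι ⁻¹ᵁ W :=
    le_antisymm (U.ι.preimage_mono h) fun z hz => hW ⟨hz, z.2⟩
  have : IsIso (M.presheaf.map (homOfLE (U.ι.preimage_mono h)).op) := by
    rw [show (homOfLE (U.ι.preimage_mono h)) = eqToHom he from Subsingleton.elim _ _, eqToHom_op, eqToHom_map]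
    infer_instance
  exact ConcreteCategory.bijective_of_isIso (M.presheaf.map (homOfLE (U.ι.preimage_mono h)).op)

/-- A generator of the restriction to an open gives a generator. -/
theorem exists_gen_of_restrict {M : X.Modules} {U : X.Opens} (h : PicF.IsInvertible (M.restrict U.ι)) {y : X}
    (hy : y ∈ U) : ∃ O : X.Opens, y ∈ O ∧ O ≤ U ∧ ∃ g : Γ(M, O), GenOn M g := by
  obtain ⟨O', g, hyO, hg⟩ := TwistLib.exists_genOn h (⟨y, hy⟩ : (U : Scheme.{u}))
  refine ⟨U.ι ''ᵁ O', ⟨⟨y, hy⟩, hyO, rfl⟩, ?_, (show Γ(M, U.ι ''ᵁ O') from g), fun V hV => ?_⟩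
  · rintro _ ⟨z, -, rfl⟩; exact z.2
  obtain ⟨W, rfl⟩ : ∃ W : U.toScheme.Opens, U.ι ''ᵁ W = V := ⟨U.ι ⁻¹ᵁ V, by
    rw [Scheme.Hom.image_preimage_eq_opensRange_inf, Scheme.Opens.opensRange_ι]
    exact inf_eq_right.mpr (hV.trans (by rintro _ ⟨z, -, rfl⟩; exact z.2))⟩
  have hW : W ≤ O' := fun z hz => by
    obtain ⟨z', hz', e⟩ := hV (show U.ι z ∈ U.ι ''ᵁ W from ⟨z, hz, rfl⟩)
    exact (U.ι.isOpenEmbedding.injective e) ▸ hz'
  have hb := (hg W hW).comp (ConcreteCategory.bijective_of_isIso (U.ι.appIso W).hom)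
  have e : (fun r : Γ(X, U.ι ''ᵁ W) => r • res M hV (show Γ(M, U.ι ''ᵁ O') from g)) =
      (fun r : Γ((U : Scheme.{u}), W) => r • res (M.restrict U.ι) hW g) ∘ ⇑(U.ι.appIso W).hom := by
    funext r
    show r • res M hV (show Γ(M, U.ι ''ᵁ O') from g) =
      (show Γ(X, U.ι ''ᵁ W) from (U.ι.appIso W).inv ((U.ι.appIso W).hom r)) • res M hV (show Γ(M, U.ι ''ᵁ O') from g)
    rw [← CommRingCat.comp_apply, Iso.hom_inv_id]
    rfl
  rw [e]
  exact hb

theorem exists_extension [IsLocallyNoetherian X] (U : X.Opens) (L : (U : Scheme.{u}).Modules)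
    (hL : PicF.IsInvertible L)
    (hufd : ∀ x : X, x ∉ U → IsDomain (X.presheaf.stalk x) ∧ UniqueFactorizationMonoid (X.presheaf.stalk x)) :
    ∃ L' : X.Modules, PicF.IsInvertible L' ∧ Nonempty (L'.restrict U.ι ≅ L) := by
  let V : X.Opens := ⟨(closure (U : Set X))ᶜ, isClosed_closure.isOpen_compl⟩
  let A := (Scheme.Modules.pushforward U.ι).obj L
  let B := (Scheme.Modules.pushforward V.ι).obj (Coh.structureModule (V : Scheme.{u}))
  have hsA : ∀ W : X.Opens, W ≤ V → Subsingleton Γ(A, W) := fun W hW => by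
    have h0 : U.ι ⁻¹ᵁ W = ⊥ := by
      refine le_bot_iff.mp fun z hz => ?_
      exact (hW hz) (subset_closure z.2)
    have : ∀ O : (U : Scheme.{u}).Opens, O = ⊥ → Subsingleton Γ(L, O) := by
      rintro O rfl
      exact AddCommGrpCat.subsingleton_of_isZero
        ((TopCat.Sheaf.isTerminalOfEmpty (Coh.toAb L)).isZero)
    exact this _ h0
  have hsB : ∀ W : X.Opens, W ≤ U → Subsingleton Γ(B, W) := fun W hW => by
    have h0 : V.ι ⁻¹ᵁ W = ⊥ := by
      refine le_bot_iff.mp fun z hz => ?_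
      exact z.2 (subset_closure (hW hz))
    have : ∀ O : (V : Scheme.{u}).Opens, O = ⊥ → Subsingleton Γ(V.toScheme, O) := by
      rintro O rfl; infer_instance
    exact this _ h0
  let fstU := (Scheme.Modules.restrictFunctor U.ι).map (biprod.fst : A ⊞ B ⟶ A)
  let sndV := (Scheme.Modules.restrictFunctor V.ι).map (biprod.snd : A ⊞ B ⟶ B)
  have hinl : ∀ (W : X.Opens) (a : Γ(A, W)),
      (biprod.fst : A ⊞ B ⟶ A).app W ((biprod.inl : A ⟶ A ⊞ B).app W a) = a := fun W a =>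
    congrArg (fun φ : A ⟶ A => φ.app W a) biprod.inl_fst
  have hinr : ∀ (W : X.Opens) (b : Γ(B, W)),
      (biprod.snd : A ⊞ B ⟶ B).app W ((biprod.inr : B ⟶ A ⊞ B).app W b) = b := fun W b =>
    congrArg (fun φ : B ⟶ B => φ.app W b) biprod.inr_snd
  have i1 : IsIso fstU := by
    refine Scheme.Modules.Hom.isIso_iff_isIso_app.mpr fun W => (ConcreteCategory.isIso_iff_bijective _).mpr ?_
    have hle : U.ι ''ᵁ W ≤ U := by rintro _ ⟨z, -, rfl⟩; exact z.2
    haveI := hsB _ hle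
    refine ⟨(injective_iff_map_eq_zero ((biprod.fst : A ⊞ B ⟶ A).app (U.ι ''ᵁ W)).hom).mpr fun a ha => ?_,
      fun a => ⟨_, hinl (U.ι ''ᵁ W) a⟩⟩
    exact DevissLib.app_biprod_ext a ha (Subsingleton.elim _ _)
  have i2 : IsIso sndV := by
    refine Scheme.Modules.Hom.isIso_iff_isIso_app.mpr fun W => (ConcreteCategory.isIso_iff_bijective _).mpr ?_
    have hle : V.ι ''ᵁ W ≤ V := by rintro _ ⟨z, -, rfl⟩; exact z.2
    haveI := hsA _ hle
    refine ⟨(injective_iff_map_eq_zero ((biprod.snd : A ⊞ B ⟶ B).app (V.ι ''ᵁ W)).hom).mpr fun a ha => ?_,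
      fun a => ⟨_, hinr (V.ι ''ᵁ W) a⟩⟩
    exact DevissLib.app_biprod_ext a (Subsingleton.elim _ _) ha
  let eU : (A ⊞ B).restrict U.ι ≅ L := @asIso _ _ _ _ fstU i1 ≪≫
    asIso ((Scheme.Modules.restrictAdjunction U.ι).counit.app L)
  let eV : (A ⊞ B).restrict V.ι ≅ Coh.structureModule (V : Scheme.{u}) := @asIso _ _ _ _ sndV i2 ≪≫
    asIso ((Scheme.Modules.restrictAdjunction V.ι).counit.app (Coh.structureModule (V : Scheme.{u})))
  have hinvU : PicF.IsInvertible ((A ⊞ B).restrict U.ι) := fun x => by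
    obtain ⟨O, hO, ⟨i⟩⟩ := hL x
    exact ⟨O, hO, ⟨(Scheme.Modules.restrictFunctor O.ι).mapIso eU ≪≫ i⟩⟩
  have hinvV : PicF.IsInvertible ((A ⊞ B).restrict V.ι) := fun x => by
    obtain ⟨O, hO, ⟨i⟩⟩ := (TwistLib.isInvertible_of_genOn (M := Coh.structureModule (V : Scheme.{u}))
      (fun _ : Unit => (⊤ : (V : Scheme.{u}).Opens)) (fun _ => ⟨(), trivial⟩)
      (fun _ => (1 : Γ((V : Scheme.{u}), ⊤))) (fun _ => AmpleLib.one_genOn ⊤)) x
    exact ⟨O, hO, ⟨(Scheme.Modules.restrictFunctor O.ι).mapIso eV ≪≫ i⟩⟩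
  have hset : Setting (A ⊞ B) (U ⊔ V) := by
    refine ⟨?_, ?_, fun W => ?_⟩
    · refine dense_iff_inter_open.mpr fun O hO ⟨z, hz⟩ => ?_
      by_cases hzU : z ∈ closure (U : Set X)
      · obtain ⟨w, hwO, hwU⟩ := mem_closure_iff.mp hzU O hO hz
        exact ⟨w, hwO, Or.inl hwU⟩
      · exact ⟨z, hz, Or.inr hzU⟩
    · rintro y (hy | hy)
      · obtain ⟨O, hyO, hO, hg⟩ := exists_gen_of_restrict hinvU hy
        exact ⟨O, hyO, hO.trans le_sup_left, hg⟩
      · obtain ⟨O, hyO, hO, hg⟩ := exists_gen_of_restrict hinvV hy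
        exact ⟨O, hyO, hO.trans le_sup_right, hg⟩
    · have bA := res_push_bijective U L (inf_le_left : W ⊓ (U ⊔ V) ≤ W)
        (le_inf inf_le_left (inf_le_right.trans le_sup_left))
      have bB := res_push_bijective V (Coh.structureModule (V : Scheme.{u}))
        (inf_le_left : W ⊓ (U ⊔ V) ≤ W) (le_inf inf_le_left (inf_le_right.trans le_sup_right))
      refine ⟨fun a b e => sub_eq_zero.mp (DevissLib.app_biprod_ext (a - b) (bA.1 ?_) (bB.1 ?_)), fun c => ?_⟩
      · refine ((QCohLib.app_map (biprod.fst : A ⊞ B ⟶ A) (homOfLE inf_le_left) (a - b)).symm.trans ?_).trans (map_zero _).symm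
        refine (congrArg _ ((map_sub _ a b).trans (sub_eq_zero.mpr e))).trans (map_zero _)
      · refine ((QCohLib.app_map (biprod.snd : A ⊞ B ⟶ B) (homOfLE inf_le_left) (a - b)).symm.trans ?_).trans (map_zero _).symm
        refine (congrArg _ ((map_sub _ a b).trans (sub_eq_zero.mpr e))).trans (map_zero _)
      · obtain ⟨a, ha⟩ := bA.2 ((biprod.fst : A ⊞ B ⟶ A).app _ c)
        obtain ⟨b, hb⟩ := bB.2 ((biprod.snd : A ⊞ B ⟶ B).app _ c)
        refine ⟨(biprod.inl : A ⟶ A ⊞ B).app W a + (biprod.inr : B ⟶ A ⊞ B).app W b, ?_⟩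
        have e1 : res (A ⊞ B) (inf_le_left : W ⊓ (U ⊔ V) ≤ W) ((biprod.inl : A ⟶ A ⊞ B).app W a) =
            (biprod.inl : A ⟶ A ⊞ B).app _ ((biprod.fst : A ⊞ B ⟶ A).app _ c) :=
          (QCohLib.app_map (biprod.inl : A ⟶ A ⊞ B) (homOfLE inf_le_left) a).symm.trans (congrArg _ ha)
        have e2 : res (A ⊞ B) (inf_le_left : W ⊓ (U ⊔ V) ≤ W) ((biprod.inr : B ⟶ A ⊞ B).app W b) =
            (biprod.inr : B ⟶ A ⊞ B).app _ ((biprod.snd : A ⊞ B ⟶ B).app _ c) :=
          (QCohLib.app_map (biprod.inr : B ⟶ A ⊞ B) (homOfLE inf_le_left) b).symm.trans (congrArg _ hb)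
        refine (map_add ((A ⊞ B).presheaf.map (homOfLE (inf_le_left : W ⊓ (U ⊔ V) ≤ W)).op).hom _ _).trans ?_
        refine (congrArg₂ (· + ·) e1 e2).trans ?_
        exact congrArg (fun φ : A ⊞ B ⟶ A ⊞ B => φ.app _ c) biprod.total
  obtain ⟨L', ι, hL', hι⟩ := exists_invertible_sub hset fun x hx => hufd x fun hh => hx (Or.inl hh)
  refine ⟨L', hL', ⟨?_ ≪≫ eU⟩⟩
  have : IsIso ((Scheme.Modules.restrictFunctor U.ι).map ι) := by
    refine Scheme.Modules.Hom.isIso_iff_isIso_app.mpr fun W => (ConcreteCategory.isIso_iff_bijective _).mpr ?_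
    have hle : U.ι ''ᵁ W ≤ U ⊔ V := by rintro _ ⟨z, -, rfl⟩; exact Or.inl z.2
    exact hι _ hle
  exact asIso ((Scheme.Modules.restrictFunctor U.ι).map ι)

end UFDExtLib
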