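import Groth.Agent.UFDExtLib.Algebra
import Groth.Agent.SDivLib.Stalk
import Groth.Agent.DevissLib.Stalk
import Groth.Agent.TwistLib.PullGen
import Mathlib.AlgebraicGeometry.Noetherian

/-!
# Integral charts and specialization maps of stalks
-/

set_option autoImplicit false
universe u

open CategoryTheory AlgebraicGeometry TopologicalSpace Opposite
open DevissLib (St gm)

noncomputable section

namespace UFDExtLib

variable {X : Scheme.{u}}

/-- The specialization map of the stalks of a module. -/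
def spG (G : X.Modules) {y z : X} (h : y ⤳ z) (a : (St z).obj G) : (St y).obj G :=
  G.presheaf.stalkSpecializes h a

/-- The specialization map of the stalks of the structure sheaf. -/
abbrev spO {y z : X} (h : y ⤳ z) : X.presheaf.stalk z →+* X.presheaf.stalk y :=
  (X.presheaf.stalkSpecializes h).hom

theorem spO_germ {y z : X} (h : y ⤳ z) {U : X.Opens} (hz : z ∈ U) (r : Γ(X, U)) :
    spO h (X.presheaf.germ U z hz r) = X.presheaf.germ U y (h.mem_open U.2 hz) r :=
  TopCat.Presheaf.germ_stalkSpecializes_apply X.presheaf hz h r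

theorem spO_comp {w y z : X} (h' : w ⤳ y) (h : y ⤳ z) (a : X.presheaf.stalk z) :
    spO h' (spO h a) = spO (h'.trans h) a :=
  TopCat.Presheaf.stalkSpecializes_comp_apply X.presheaf h' h a

theorem spG_gm (G : X.Modules) {y z : X} (h : y ⤳ z) {U : X.Opens} (hz : z ∈ U) (s : Γ(G, U)) :
    spG G h (gm G z hz s) = gm G y (h.mem_open U.2 hz) s :=
  TopCat.Presheaf.germ_stalkSpecializes_apply G.presheaf hz h s

theorem spG_smul (G : X.Modules) {y z : X} (h : y ⤳ z) (c : X.presheaf.stalk z) (a : (St z).obj G) :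
    spG G h (c • a) = spO h c • spG G h a := by
  obtain ⟨U, hU, r, rfl⟩ := X.presheaf.exists_germ_eq (x := z) c
  obtain ⟨V, hV, s, rfl⟩ := DevissLib.exists_gm_eq G z a
  rw [← TopCat.Presheaf.germ_res_apply X.presheaf (homOfLE (inf_le_left : U ⊓ V ≤ U)) z ⟨hU, hV⟩ r,
    ← DevissLib.gm_map G (inf_le_right : U ⊓ V ≤ V) z ⟨hU, hV⟩ s, ← DevissLib.gm_smul, spG_gm, spG_gm,
    spO_germ, DevissLib.gm_smul]

variable (W : X.affineOpens)

/-- The point of an affine open with a given prime. -/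
def pt (P : Ideal Γ(X, W.1)) [hP : P.IsPrime] : X := W.2.fromSpec ⟨P, hP⟩

theorem pt_mem (P : Ideal Γ(X, W.1)) [hP : P.IsPrime] : pt W P ∈ W.1 := by
  have h : pt W P ∈ Set.range W.2.fromSpec := ⟨_, rfl⟩
  rwa [W.2.range_fromSpec] at h

theorem prm_pt (P : Ideal Γ(X, W.1)) [hP : P.IsPrime] : SDivLib.prm W (pt_mem W P) = P := by
  have : W.2.primeIdealOf ⟨pt W P, pt_mem W P⟩ = ⟨P, hP⟩ :=
    W.2.fromSpec.isOpenEmbedding.injective (W.2.fromSpec_primeIdealOf _)
  exact congrArg PrimeSpectrum.asIdeal this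

theorem specializes_of_le {y z : X} (hy : y ∈ W.1) (hz : z ∈ W.1)
    (h : SDivLib.prm W hy ≤ SDivLib.prm W hz) : y ⤳ z := by
  have h1 : W.2.primeIdealOf ⟨y, hy⟩ ⤳ W.2.primeIdealOf ⟨z, hz⟩ := (PrimeSpectrum.le_iff_specializes _ _).mp h
  have h2 := h1.map W.2.fromSpec.continuous
  rw [W.2.fromSpec_primeIdealOf, W.2.fromSpec_primeIdealOf] at h2
  exact h2

theorem prm_le_of_specializes {y z : X} (hy : y ∈ W.1) (hz : z ∈ W.1) (h : y ⤳ z) :
    SDivLib.prm W hy ≤ SDivLib.prm W hz := by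
  refine (PrimeSpectrum.le_iff_specializes (W.2.primeIdealOf ⟨y, hy⟩) (W.2.primeIdealOf ⟨z, hz⟩)).mpr ?_
  refine W.2.fromSpec.isOpenEmbedding.isInducing.specializes_iff.mp ?_
  rw [W.2.fromSpec_primeIdealOf, W.2.fromSpec_primeIdealOf]
  exact h

theorem eq_of_prm_eq {y z : X} (hy : y ∈ W.1) (hz : z ∈ W.1)
    (h : SDivLib.prm W hy = SDivLib.prm W hz) : y = z := by
  have : W.2.primeIdealOf ⟨y, hy⟩ = W.2.primeIdealOf ⟨z, hz⟩ := PrimeSpectrum.ext h
  have h2 := congrArg W.2.fromSpec this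
  rwa [W.2.fromSpec_primeIdealOf, W.2.fromSpec_primeIdealOf] at h2

variable [IsDomain Γ(X, W.1)]

/-- The generic point of an integral affine chart. -/
def gpt : X := pt W ⊥

theorem gpt_mem : gpt W ∈ W.1 := pt_mem W ⊥

theorem gpt_specializes {z : X} (hz : z ∈ W.1) : gpt W ⤳ z :=
  specializes_of_le W (gpt_mem W) hz ((prm_pt W ⊥).le.trans bot_le)

theorem isFractionRing_gpt :
    @IsFractionRing Γ(X, W.1) _ (X.presheaf.stalk (gpt W)) _
      (X.presheaf.algebra_section_stalk (⟨gpt W, gpt_mem W⟩ : W.1)) := by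
  letI := X.presheaf.algebra_section_stalk (⟨gpt W, gpt_mem W⟩ : W.1)
  have h : IsLocalization.AtPrime (X.presheaf.stalk (gpt W)) (SDivLib.prm W (gpt_mem W)) :=
    W.2.isLocalization_stalk ⟨gpt W, gpt_mem W⟩
  have hM : (SDivLib.prm W (gpt_mem W)).primeCompl = nonZeroDivisors Γ(X, W.1) := by
    ext a
    rw [mem_nonZeroDivisors_iff_ne_zero]
    show a ∉ SDivLib.prm W (gpt_mem W) ↔ _
    rw [show SDivLib.prm W (gpt_mem W) = ⊥ from prm_pt W ⊥, Ideal.mem_bot]
  rw [IsFractionRing, ← hM]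
  exact h

theorem spO_injective {z : X} (hz : z ∈ W.1) : Function.Injective (spO (gpt_specializes W hz)) := by
  letI := X.presheaf.algebra_section_stalk (⟨z, hz⟩ : W.1)
  haveI : IsLocalization.AtPrime (X.presheaf.stalk z) (SDivLib.prm W hz) := W.2.isLocalization_stalk ⟨z, hz⟩
  letI := X.presheaf.algebra_section_stalk (⟨gpt W, gpt_mem W⟩ : W.1)
  haveI := isFractionRing_gpt W
  rw [injective_iff_map_eq_zero]
  intro v hv
  obtain ⟨⟨a, s⟩, hs⟩ := IsLocalization.surj (SDivLib.prm W hz).primeCompl v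
  have h1 : spO (gpt_specializes W hz) (X.presheaf.germ W.1 z hz a) = 0 := by
    have h := congrArg (spO (gpt_specializes W hz)) hs
    rw [map_mul, hv, zero_mul] at h
    exact h.symm
  rw [spO_germ] at h1
  have ha : a = 0 := IsFractionRing.injective Γ(X, W.1) (X.presheaf.stalk (gpt W)) (h1.trans (map_zero _).symm)
  have h2 : v * algebraMap _ _ (s : Γ(X, W.1)) = 0 := by rw [hs, ha, map_zero]
  exact (IsLocalization.map_units (X.presheaf.stalk z) s).mul_left_eq_zero.mp h2

theorem isField_gpt : IsField (X.presheaf.stalk (gpt W)) := by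
  letI := X.presheaf.algebra_section_stalk (⟨gpt W, gpt_mem W⟩ : W.1)
  haveI := isFractionRing_gpt W
  exact (IsFractionRing.toField (A := Γ(X, W.1)) (K := X.presheaf.stalk (gpt W))).toIsField

end UFDExtLib
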