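import Groth.Agent.UFDExtLib.Criterion
import Groth.Agent.NormalExtLib.Scheme
import Groth.Agent.QCohLib.LocSub
import Groth.Agent.TwistLib.Basic
import Mathlib.Order.Zorn

/-!
# Extending invertible modules across points with factorial local rings
-/

set_option autoImplicit false
universe u

open CategoryTheory CategoryTheory.Limits AlgebraicGeometry TopologicalSpace Opposite
open DevissLib (St gm)
open AmpleLib (res GenAt GenOn)

noncomputable section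

namespace UFDExtLib

variable {X : Scheme.{u}} {G : X.Modules} {V₀ : X.Opens}

/-- An affine integral neighbourhood. -/
theorem exists_chart [IsLocallyNoetherian X] (x : X) [IsDomain (X.presheaf.stalk x)] :
    ∃ W : X.affineOpens, x ∈ W.1 ∧ IsDomain Γ(X, W.1) ∧ IsNoetherianRing Γ(X, W.1) := by
  obtain ⟨W, hxW, hW, hinj⟩ := X.exists_germ_injective x
  exact ⟨⟨W, hW⟩, hxW, hinj.isDomain (X.presheaf.germ W x hxW).hom,
    IsLocallyNoetherian.component_noetherian ⟨W, hW⟩⟩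

/-- A point of a closed set without proper generization in it. -/
theorem exists_maximal_point {C : Set X} (hC : IsClosed C) {x₀ : X} (hx₀ : x₀ ∈ C) :
    ∃ x ∈ C, ∀ y, y ⤳ x → y ≠ x → y ∉ C := by
  obtain ⟨U, hU, hx₀U, -⟩ := exists_isAffineOpen_mem_and_subset (x := x₀) (U := (⊤ : X.Opens)) trivial
  let Z : Closeds X := ⟨C, hC⟩
  let J := Scheme.IdealSheafData.vanishingIdeal Z
  have hJ : ∀ z : X, z ∈ C ↔ z ∈ J.support := fun z =>
    (Set.ext_iff.mp (Scheme.IdealSheafData.coe_support_vanishingIdeal Z).symm z)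
  haveI := SDivLib.prm_isPrime ⟨U, hU⟩ hx₀U
  obtain ⟨P, hP, hPle⟩ := Ideal.exists_minimalPrimes_le
    ((SDivLib.mem_support_iff_le J ⟨U, hU⟩ hx₀U).mp ((hJ x₀).mp hx₀))
  haveI : P.IsPrime := hP.1.1
  refine ⟨pt ⟨U, hU⟩ P, (hJ _).mpr ((SDivLib.mem_support_iff_le J ⟨U, hU⟩ (pt_mem ⟨U, hU⟩ P)).mpr
    ((prm_pt ⟨U, hU⟩ P).symm ▸ hP.1.2)), fun y hy hne hyC => hne ?_⟩
  -- generizations stay in the chart
  have hyU : y ∈ U := hy.mem_open U.2 (pt_mem ⟨U, hU⟩ P)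
  have hle := prm_le_of_specializes ⟨U, hU⟩ hyU (pt_mem ⟨U, hU⟩ P) hy
  rw [prm_pt] at hle
  refine eq_of_prm_eq ⟨U, hU⟩ hyU (pt_mem ⟨U, hU⟩ P) ?_
  rw [prm_pt]
  exact le_antisymm hle (hP.2 ⟨SDivLib.prm_isPrime ⟨U, hU⟩ hyU, (SDivLib.mem_support_iff_le J ⟨U, hU⟩ hyU).mp ((hJ y).mp hyC)⟩ hle)

section Step

variable {W : X.affineOpens} [IsDomain Γ(X, W.1)]

theorem Ext.isClosed_bad (h : Setting G V₀) (E : Ext G V₀) {ε : (St (gpt W)).obj G}
    (hε : Function.Bijective fun c : X.presheaf.stalk (gpt W) => c • ε) {d : X.presheaf.stalk (gpt W)} {y : X} (hy : y ∈ W.1)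
    (hr : Rep W ε E.S hy d) (hyV : y ∈ E.V) :
    ∃ O : X.Opens, y ∈ O ∧ O ≤ E.V ⊓ W.1 ∧ ∀ (z : X) (_ : z ∈ O) (hzW : z ∈ W.1), Rep W ε E.S hzW d := by
  obtain ⟨O, u, hyO, hO, hu, hrep⟩ := E.exists_rep h hε hyV hy
  obtain ⟨v, ⟨a, ha, hav⟩, hd⟩ := (hrep y hyO hy).ratio hε.1 hr hu
  obtain ⟨O', hyO', r, rfl⟩ := X.presheaf.exists_germ_eq (x := y) a
  refine ⟨X.basicOpen r ⊓ O, ⟨(X.mem_basicOpen r y hyO').mpr ha, hyO⟩, inf_le_right.trans hO, fun z hz hzW => ?_⟩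
  have hzO' : z ∈ O' := X.basicOpen_le r hz.1
  rw [hd]
  refine (hrep z hz.2 hzW).mul ⟨X.presheaf.germ O' z hzO' r, (X.mem_basicOpen r z hzO').mp hz.1, ?_⟩
  rw [← hav, spO_germ, spO_germ]

theorem Setting.exists_section (h : Setting G V₀) {ε : (St (gpt W)).obj G}
    {d : X.presheaf.stalk (gpt W)} {W' : X.Opens} (hW' : W' ≤ W.1)
    (hd : ∀ z (hz : z ∈ W'), z ∈ V₀ → ∃ a : (St z).obj G, spG G (gpt_specializes W (hW' hz)) a = d • ε) :
    ∃ τ : Γ(G, W'), ∀ (hξ : gpt W ∈ W'), gm G (gpt W) hξ τ = d • ε := by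
  have hloc : ∀ z : (W' ⊓ V₀ : X.Opens), ∃ (O : X.Opens) (_ : z.1 ∈ O) (_ : O ≤ W' ⊓ V₀) (s : Γ(G, O)),
      ∀ (hξ : gpt W ∈ O), gm G (gpt W) hξ s = d • ε := by
    rintro ⟨z, hzW', hzV⟩
    obtain ⟨a, ha⟩ := hd z hzW' hzV
    obtain ⟨O, hzO, s, rfl⟩ := DevissLib.exists_gm_eq G z a
    refine ⟨O ⊓ (W' ⊓ V₀), ⟨hzO, hzW', hzV⟩, inf_le_right, res G inf_le_left s, fun hξ => ?_⟩
    rw [← ha, spG_gm]
    exact DevissLib.gm_map G _ _ hξ s
  choose O hzO hO s hs using hloc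
  obtain ⟨σ, hσ, -⟩ := TopCat.Sheaf.existsUnique_gluing' (Coh.toAb G) O (W' ⊓ V₀) (fun z => homOfLE (hO z))
    (fun z hz => Opens.mem_iSup.mpr ⟨⟨z, hz⟩, hzO _⟩) s (fun a b => by
      refine TwistLib.mod_ext G fun z hz => ?_
      have hzW : z ∈ W.1 := hW' (hO a hz.1).1
      have hξ : gpt W ∈ O a ⊓ O b := (gpt_specializes W hzW).mem_open (O a ⊓ O b).2 hz
      refine (DevissLib.gm_map G inf_le_left z hz (s a)).trans (Eq.trans ?_ (DevissLib.gm_map G inf_le_right z hz (s b)).symm)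
      refine h.spG_injective hzW ?_
      rw [spG_gm, spG_gm, hs a hξ.1, hs b hξ.2])
  obtain ⟨τ, hτ⟩ := (h.ext W').2 σ
  refine ⟨τ, fun hξ => ?_⟩
  have hξ0 : gpt W ∈ W' ⊓ V₀ := ⟨hξ, gpt_mem_dense (W := W) h⟩
  have hp : gpt W ∈ O ⟨gpt W, hξ0⟩ := hzO _
  rw [← DevissLib.gm_map G (inf_le_left : W' ⊓ V₀ ≤ W') _ hξ0 τ,
    ← DevissLib.gm_map G (hO ⟨gpt W, hξ0⟩) _ hp, ← hs ⟨gpt W, hξ0⟩ hp]
  exact congrArg (fun t => gm G (gpt W) hp t) ((congrArg (AmpleLib.res G (hO _)) hτ).trans (hσ _))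

theorem Ext.exists_extend (h : Setting G V₀) (E : Ext G V₀) {x : X} (hxW : x ∈ W.1) (hx : x ∉ E.V)
    [IsNoetherianRing Γ(X, W.1)]
    [UniqueFactorizationMonoid (X.presheaf.stalk x)] (hV : ∀ y, y ⤳ x → y ≠ x → y ∈ E.V) :
    ∃ E' : Ext G V₀, E.V ≤ E'.V ∧ (∀ z ∈ E.V, E'.S z = E.S z) ∧ x ∈ E'.V := by
  classical
  obtain ⟨ε, hε⟩ := h.exists_basis (W := W)
  obtain ⟨d, hd0, hd⟩ := exists_punctured_generator h E hε hxW hV
  let Bad : Set X := {z | ∃ hz : z ∈ W.1, z ∈ E.V ∧ ¬ Rep W ε E.S hz d}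
  have hxB : x ∉ closure Bad := by
    intro hcl
    let J := Scheme.IdealSheafData.vanishingIdeal (⟨closure Bad, isClosed_closure⟩ : Closeds X)
    have hJ : ∀ z : X, z ∈ closure Bad ↔ z ∈ J.support := fun z =>
      (Set.ext_iff.mp (Scheme.IdealSheafData.coe_support_vanishingIdeal (⟨closure Bad, isClosed_closure⟩ : Closeds X)).symm z)
    haveI := SDivLib.prm_isPrime W hxW
    obtain ⟨P, hP, hPle⟩ := Ideal.exists_minimalPrimes_le ((SDivLib.mem_support_iff_le J W hxW).mp ((hJ x).mp hcl))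
    haveI : P.IsPrime := hP.1.1
    let η := pt W P
    have hηx : η ⤳ x := specializes_of_le W (pt_mem W P) hxW (by rw [prm_pt]; exact hPle)
    have hηcl : η ∈ closure Bad := (hJ η).mpr ((SDivLib.mem_support_iff_le J W (pt_mem W P)).mpr
      ((prm_pt W P).symm ▸ hP.1.2))
    -- an open around `η` meeting no other component
    have hfin := Ideal.finite_minimalPrimes_of_isNoetherianRing Γ(X, W.1) (J.ideal W)
    obtain ⟨f, hfP, hf⟩ : ∃ f ∉ P, ∀ P' ∈ (J.ideal W).minimalPrimes, P' ≠ P → f ∈ P' := by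
      have hne : ∀ P' : {P' // P' ∈ (J.ideal W).minimalPrimes ∧ P' ≠ P}, ∃ g ∈ P'.1, g ∉ P := fun P' =>
        SetLike.not_le_iff_exists.mp fun hle => P'.2.2 (le_antisymm hle (hP.2 P'.2.1.1 hle))
      choose g hg hgP using hne
      haveI : Finite {P' // P' ∈ (J.ideal W).minimalPrimes ∧ P' ≠ P} :=
        (hfin.subset fun P' hP' => hP'.1).to_subtype
      haveI := Fintype.ofFinite {P' // P' ∈ (J.ideal W).minimalPrimes ∧ P' ≠ P}
      refine ⟨∏ P', g P', fun hh => ?_, fun P' hP' hne' => ?_⟩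
      · obtain ⟨P', -, hP'⟩ := (‹P.IsPrime›).prod_mem_iff.mp hh
        exact hgP P' hP'
      · exact Ideal.prod_mem _ (Finset.mem_univ (⟨P', hP', hne'⟩ : {P' // P' ∈ (J.ideal W).minimalPrimes ∧ P' ≠ P})) (hg ⟨P', hP', hne'⟩)
    have hηf : η ∈ X.basicOpen f := by
      rw [X.mem_basicOpen f η (pt_mem W P)]
      by_contra hh
      have : f ∈ SDivLib.prm W (pt_mem W P) := (SDivLib.mem_prm_iff W _ f).mpr hh
      rw [prm_pt] at this
      exact hfP this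
    obtain ⟨b, hbf, hb, hbV, hbr⟩ := mem_closure_iff.mp hηcl _ (X.basicOpen f).2 hηf
    haveI := SDivLib.prm_isPrime W hb
    obtain ⟨P', hP', hP'le⟩ := Ideal.exists_minimalPrimes_le
      ((SDivLib.mem_support_iff_le J W hb).mp ((hJ b).mp (subset_closure ⟨hb, hbV, hbr⟩)))
    have hPP : P' = P := by
      by_contra hne
      exact (SDivLib.mem_prm_iff W hb f).mp (hP'le (hf P' hP' hne)) ((X.mem_basicOpen f b hb).mp hbf)
    subst hPP
    have hηb : η ⤳ b := specializes_of_le W (pt_mem W P') hb (by rw [prm_pt]; exact hP'le)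
    have hηV : η ∈ E.V := hηb.mem_open E.V.2 hbV
    obtain ⟨O, hηO, hO, hOr⟩ := E.isClosed_bad h hε (pt_mem W P')
      (hd η (pt_mem W P') hηx fun e => hx (e ▸ hηV)) hηV
    obtain ⟨c, hcO, hc, hcV, hcr⟩ := mem_closure_iff.mp hηcl _ O.2 hηO
    exact hcr (hOr c hcO hc)
  let W' : X.Opens := W.1 ⊓ ⟨(closure Bad)ᶜ, isClosed_closure.isOpen_compl⟩
  have hW'd : ∀ z (hz : z ∈ W'), z ∈ E.V → Rep W ε E.S hz.1 d := fun z hz hzV => by
    by_contra hh
    exact hz.2 (subset_closure ⟨hz.1, hzV, hh⟩)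
  obtain ⟨τ, hτ⟩ := h.exists_section (ε := ε) (d := d) (W' := W') inf_le_left fun z hz hzV => by
    obtain ⟨a, -, ha⟩ := hW'd z hz (E.le hzV)
    exact ⟨a, ha⟩
  have hsp : ∀ z (hz : z ∈ W'), spG G (gpt_specializes W hz.1) (gm G z hz τ) = d • ε := fun z hz =>
    (spG_gm G _ hz τ).trans (hτ _)
  let S' : ∀ z : X, Submodule (X.presheaf.stalk z) ((St z).obj G) := fun z =>
    if hz : z ∈ W' then Submodule.span _ {gm G z hz τ} else E.S z
  have hS : ∀ z ∈ E.V, S' z = E.S z := fun z hzV => by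
    by_cases hz : z ∈ W'
    · simp only [S', dif_pos hz]
      obtain ⟨a, ha, hau⟩ := hW'd z hz hzV
      rw [ha, h.spG_injective hz.1 (hau.trans (hsp z hz).symm)]
    · simp only [S', dif_neg hz]
  refine ⟨⟨E.V ⊔ W', E.le.trans le_sup_left, S', fun z hz => (hS z (E.le hz)).trans (E.top z hz), ?_⟩,
    le_sup_left, hS, Or.inr ⟨hxW, hxB⟩⟩
  rintro y (hy | hy)
  · obtain ⟨O, hyO, hO, g, hg⟩ := E.gen y hy
    exact ⟨O, hyO, hO.trans le_sup_left, g, fun z hz => ⟨(hS z (hO hz)).trans (hg z hz).1, (hg z hz).2⟩⟩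
  · refine ⟨W', hy, le_sup_right, τ, fun z hz => ⟨by simp only [S', dif_pos hz], fun c c' e => ?_⟩⟩
    have e' := congrArg (spG G (gpt_specializes W hz.1)) e
    rw [spG_smul, spG_smul, hsp z hz, smul_smul, smul_smul] at e'
    refine spO_injective W hz.1 ?_
    letI : Field (X.presheaf.stalk (gpt W)) := (isField_gpt W).toField
    exact mul_right_cancel₀ hd0 (hε.1 e')

end Step

theorem exists_top [IsLocallyNoetherian X] (h : Setting G V₀)
    (hufd : ∀ x : X, x ∉ V₀ → IsDomain (X.presheaf.stalk x) ∧ UniqueFactorizationMonoid (X.presheaf.stalk x)) :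
    ∃ E : Ext G V₀, E.V = ⊤ := by
  classical
  let E₀ : Ext G V₀ := ⟨V₀, le_rfl, fun _ => ⊤, fun _ _ => rfl, fun y hy => by
    obtain ⟨O, hyO, hO, g, hg⟩ := h.gens y hy
    exact ⟨O, hyO, hO, g, fun z hz => ⟨(eq_top_iff.mpr fun a _ =>
      Submodule.mem_span_singleton.mpr ((hg.genAt hz).2 a)).symm, (hg.genAt hz).1⟩⟩⟩
  let r : Ext G V₀ → Ext G V₀ → Prop := fun E E' => E.V ≤ E'.V ∧ ∀ z ∈ E.V, E'.S z = E.S z
  obtain ⟨E, hE⟩ := exists_maximal_of_chains_bounded (r := r) (fun c hc => by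
    rcases c.eq_empty_or_nonempty with rfl | ⟨E₁, hE₁⟩
    · exact ⟨E₀, fun a ha => ha.elim⟩
    let S' : ∀ z : X, Submodule (X.presheaf.stalk z) ((St z).obj G) := fun z =>
      if hz : ∃ E ∈ c, z ∈ E.V then hz.choose.S z else ⊤
    have hS : ∀ E ∈ c, ∀ z ∈ E.V, S' z = E.S z := fun E hE z hz => by
      have hex : ∃ E ∈ c, z ∈ E.V := ⟨E, hE, hz⟩
      simp only [S', dif_pos hex]
      rcases eq_or_ne hex.choose E with e | e
      · rw [e]
      · rcases hc hex.choose_spec.1 hE e with h' | h'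
        · exact (h'.2 z hex.choose_spec.2).symm
        · exact h'.2 z hz
    refine ⟨⟨⨆ E : c, E.1.V, E₁.le.trans (le_iSup (fun E : c => E.1.V) ⟨E₁, hE₁⟩), S',
      fun z hz => (hS E₁ hE₁ z (E₁.le hz)).trans (E₁.top z hz), fun y hy => ?_⟩,
      fun a ha => ⟨le_iSup (fun E : c => E.1.V) ⟨a, ha⟩, hS a ha⟩⟩
    obtain ⟨⟨E, hEc⟩, hyE⟩ := Opens.mem_iSup.mp hy
    obtain ⟨O, hyO, hO, g, hg⟩ := E.gen y hyE
    exact ⟨O, hyO, hO.trans (le_iSup (fun E : c => E.1.V) ⟨E, hEc⟩), g,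
      fun z hz => ⟨(hS E hEc z (hO hz)).trans (hg z hz).1, (hg z hz).2⟩⟩)
    (fun {a b c} hab hbc => ⟨hab.1.trans hbc.1, fun z hz => (hbc.2 z (hab.1 hz)).trans (hab.2 z hz)⟩)
  refine ⟨E, eq_top_iff.mpr fun x₀ _ => ?_⟩
  by_contra hx₀
  obtain ⟨x, hx, hxmax⟩ := exists_maximal_point E.V.2.isClosed_compl hx₀
  obtain ⟨hdom, hu⟩ := hufd x fun hh => hx (E.le hh)
  haveI := hdom
  haveI := hu
  obtain ⟨W, hxW, hW, hN⟩ := exists_chart x
  haveI := hW
  haveI := hN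
  obtain ⟨E', h1, h2, h3⟩ := E.exists_extend h hxW hx fun y hy hne => not_not.mp (hxmax y hy hne)
  exact hx ((hE E' ⟨h1, h2⟩).1 h3)

/-- The sections with germs in the chosen lattices. -/
def Ext.sub (E : Ext G V₀) : QCohLib.LocSub G where
  mem W a := ∀ (z : X) (hz : z ∈ W), gm G z hz a ∈ E.S z
  zero W z hz := by rw [DevissLib.gm_zero]; exact Submodule.zero_mem _
  add {W a b} ha hb z hz := by
    rw [show gm G z hz (a + b) = gm G z hz a + gm G z hz b from map_add (G.presheaf.germ W z hz).hom a b]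
    exact Submodule.add_mem _ (ha z hz) (hb z hz)
  smul {W} r {a} ha z hz := by rw [DevissLib.gm_smul]; exact Submodule.smul_mem _ _ (ha z hz)
  res {V W} hle {a} ha z hz := by rw [DevissLib.gm_map]; exact ha z (hle hz)
  local' {V} a ha z hz := by
    obtain ⟨W, hle, hzW, hm⟩ := ha z hz
    have := hm z hzW
    rwa [DevissLib.gm_map] at this

/-- An invertible extension inside `G`. -/
theorem exists_invertible_sub [IsLocallyNoetherian X] (h : Setting G V₀)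
    (hufd : ∀ x : X, x ∉ V₀ → IsDomain (X.presheaf.stalk x) ∧ UniqueFactorizationMonoid (X.presheaf.stalk x)) :
    ∃ (L' : X.Modules) (ι : L' ⟶ G), PicF.IsInvertible L' ∧
      ∀ W : X.Opens, W ≤ V₀ → Function.Bijective (ι.app W) := by
  obtain ⟨E, hE⟩ := exists_top h hufd
  refine ⟨E.sub.toModules, E.sub.ι, ?_, fun W hW => ⟨E.sub.ι_app_injective W, fun a =>
    ⟨E.sub.lift a fun z hz => by rw [E.top z (hW hz)]; exact Submodule.mem_top, rfl⟩⟩⟩
  choose O hyO hO g hg using fun y : X => E.gen y (hE ▸ trivial)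
  have hm : ∀ y, E.sub.mem (O y) (g y) := fun y z hz => by
    rw [(hg y z hz).1]; exact Submodule.mem_span_singleton_self _
  refine TwistLib.isInvertible_of_genOn O (fun x => ⟨x, hyO x⟩) (fun y => E.sub.lift (g y) (hm y))
    fun y => TwistLib.genOn_of_genAt fun z hz => ?_
  let ψ := ((St z).map E.sub.ι).hom
  have hψ : Function.Injective ψ := (ModuleCat.mono_iff_injective _).mp (inferInstance : Mono ((St z).map E.sub.ι))
  have hψg : ψ (gm E.sub.toModules z hz (E.sub.lift (g y) (hm y))) = gm G z hz (g y) :=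
    DevissLib.gm_app E.sub.ι z hz _
  have key : ∀ c : X.presheaf.stalk z, ψ (c • gm E.sub.toModules z hz (E.sub.lift (g y) (hm y))) =
      c • gm G z hz (g y) := fun c => (ψ.map_smul c _).trans (congrArg (c • ·) hψg)
  refine ⟨fun c c' e => (hg y z hz).2 ((key c).symm.trans ((congrArg ψ e).trans (key c'))), fun a => ?_⟩
  · obtain ⟨O', hzO', a', rfl⟩ := DevissLib.exists_gm_eq _ z a
    have hmem : gm G z hzO' (E.sub.ι.app O' a') ∈ E.S z := E.sub.ι_app_mem a' z hzO'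
    rw [(hg y z hz).1, Submodule.mem_span_singleton] at hmem
    obtain ⟨c, hc⟩ := hmem
    refine ⟨c, hψ ?_⟩
    refine (key c).trans (hc.trans ?_)
    exact (DevissLib.gm_app E.sub.ι z hzO' a').symm

end UFDExtLib
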