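import Mathlib.RingTheory.UniqueFactorizationDomain.Basic
import Mathlib.RingTheory.Localization.FractionRing
import Mathlib.RingTheory.Ideal.Operations
import Mathlib.RingTheory.UniqueFactorizationDomain.Multiplicity
import Mathlib.Tactic.FieldSimp
import Mathlib.Tactic.Ring

/-!
# Gluing local principal lattices in the fraction field of a factorial domain
-/

set_option autoImplicit false
universe u

namespace UFDExtLib

variable {R K : Type u} [CommRing R] [IsDomain R] [UniqueFactorizationMonoid R] [Field K] [Algebra R K]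
  [IsFractionRing R K]

/-- `u` is the ratio of two elements prime to the ideal `P`. -/
def UnitAt (P : Ideal R) (u : K) : Prop :=
  ∃ a b : R, a ∉ P ∧ b ∉ P ∧ u * algebraMap R K b = algebraMap R K a

omit [IsDomain R] [UniqueFactorizationMonoid R] [IsFractionRing R K] in
theorem unitAt_mul {P : Ideal R} [P.IsPrime] {u v : K} (hu : UnitAt P u) (hv : UnitAt P v) :
    UnitAt P (u * v) := by
  obtain ⟨a, b, ha, hb, h⟩ := hu
  obtain ⟨c, d, hc, hd, h'⟩ := hv
  refine ⟨a * c, b * d, ‹P.IsPrime›.mul_notMem ha hc, ‹P.IsPrime›.mul_notMem hb hd, ?_⟩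
  rw [map_mul, map_mul, mul_mul_mul_comm, h, h']

omit [IsDomain R] [UniqueFactorizationMonoid R] in
theorem unitAt_inv {P : Ideal R} [P.IsPrime] {u : K} (hu : UnitAt P u) : UnitAt P u⁻¹ := by
  obtain ⟨a, b, ha, hb, h⟩ := hu
  refine ⟨b, a, hb, ha, ?_⟩
  have ha0 : algebraMap R K a ≠ 0 := fun h0 => ha (by
    rw [(IsFractionRing.injective R K) (h0.trans (map_zero _).symm)]; exact P.zero_mem)
  have hu0 : u ≠ 0 := fun h0 => ha0 (by rw [← h, h0, zero_mul])
  rw [← h, inv_mul_cancel_left₀ hu0]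

omit [IsDomain R] [UniqueFactorizationMonoid R] [IsFractionRing R K] in
theorem unitAt_algebraMap {P : Ideal R} [P.IsPrime] {a : R} (ha : a ∉ P) : UnitAt P (algebraMap R K a) :=
  ⟨a, 1, ha, fun h => ‹P.IsPrime›.ne_top (P.eq_top_iff_one.mpr h), by rw [map_one, mul_one]⟩

/-- An element of the fraction field is a unit at `P` once it is one at each principal prime inside. -/
theorem unitAt_of_primes {P : Ideal R} [P.IsPrime] {u : K} (hu : u ≠ 0)
    (h : ∀ π : R, Prime π → π ∈ P → UnitAt (Ideal.span {π}) u) : UnitAt P u := by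
  classical
  obtain ⟨a, b, hb, hab⟩ := IsFractionRing.div_surjective R u
  have hb0 : b ≠ 0 := nonZeroDivisors.ne_zero hb
  have ha0 : a ≠ 0 := fun h0 => hu (by rw [← hab, h0, map_zero, zero_div])
  obtain ⟨a', b', c', hcop, rfl, rfl⟩ := UniqueFactorizationMonoid.exists_reduced_factors' a b hb0
  have hc0 : c' ≠ 0 := fun h0 => hb0 (by simp [h0])
  have hb'0 : algebraMap R K b' ≠ 0 := fun h0 => hb0 (by
    rw [(IsFractionRing.injective R K) (h0.trans (map_zero _).symm), mul_zero])
  have hu' : u * algebraMap R K b' = algebraMap R K a' := by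
    rw [← hab, map_mul, map_mul, mul_div_mul_left _ _ ((map_ne_zero_iff _ (IsFractionRing.injective R K)).mpr hc0),
      div_mul_cancel₀ _ hb'0]
  have key : ∀ π : R, Prime π → π ∈ P → ¬ π ∣ b' ∧ ¬ π ∣ a' := by
    intro π hπ hπP
    obtain ⟨c, d, hc, hd, hcd⟩ := h π hπ hπP
    rw [Ideal.mem_span_singleton] at hc hd
    have : a' * d = c * b' := IsFractionRing.injective R K (by
      rw [map_mul, map_mul, ← hu', ← hcd]; ring)
    refine ⟨fun hb'' => ?_, fun ha'' => ?_⟩
    · rcases hπ.dvd_or_dvd (this ▸ (dvd_mul_of_dvd_right hb'' c) : π ∣ a' * d) with h1 | h1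
      · exact hπ.not_isUnit (hcop h1 hb'')
      · exact hd h1
    · rcases hπ.dvd_or_dvd (this ▸ (dvd_mul_of_dvd_left ha'' d) : π ∣ c * b') with h1 | h1
      · exact hc h1
      · exact hπ.not_isUnit (hcop ha'' h1)
  have notMem : ∀ z : R, z ≠ 0 → (∀ π, Prime π → π ∈ P → ¬ π ∣ z) → z ∉ P := by
    intro z hz0 hz hzP
    obtain ⟨f, hf, v, hv⟩ := UniqueFactorizationMonoid.exists_prime_factors z hz0
    rw [← hv] at hzP
    rcases ‹P.IsPrime›.mem_or_mem hzP with h1 | h1
    · obtain ⟨π, hπ, hπP⟩ := (‹P.IsPrime›.multiset_prod_mem_iff_exists_mem f).mp h1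
      exact hz π (hf π hπ) hπP (hv ▸ (Multiset.dvd_prod hπ).mul_right _)
    · exact ‹P.IsPrime›.ne_top (P.eq_top_of_isUnit_mem h1 v.isUnit)
  refine ⟨a', b', notMem a' ?_ fun π h1 h2 => (key π h1 h2).2, notMem b' ?_ fun π h1 h2 => (key π h1 h2).1, hu'⟩
  · exact fun h0 => ha0 (by simp [h0])
  · exact fun h0 => hb0 (by simp [h0])

/-- Every nonzero element is, at a principal prime, a power of the prime up to a unit. -/
theorem exists_pow_unitAt {π : R} (hπ : Prime π) {u : K} (hu : u ≠ 0) :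
    ∃ m n : ℕ, UnitAt (Ideal.span {π}) (u * algebraMap R K (π ^ m) / algebraMap R K (π ^ n)) := by
  obtain ⟨a, b, hb, hab⟩ := IsFractionRing.div_surjective R u
  have hb0 : b ≠ 0 := nonZeroDivisors.ne_zero hb
  have ha0 : a ≠ 0 := fun h0 => hu (by rw [← hab, h0, map_zero, zero_div])
  obtain ⟨a', hea, ha'⟩ := (FiniteMultiplicity.of_prime_left hπ ha0).exists_eq_pow_mul_and_not_dvd
  obtain ⟨b', heb, hb'⟩ := (FiniteMultiplicity.of_prime_left hπ hb0).exists_eq_pow_mul_and_not_dvd
  generalize multiplicity π a = n at hea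
  generalize multiplicity π b = m at heb
  subst hea heb
  refine ⟨m, n, a', b', Ideal.mem_span_singleton.not.mpr ha', Ideal.mem_span_singleton.not.mpr hb', ?_⟩
  have hinj := IsFractionRing.injective R K
  have hp : ∀ k, algebraMap R K (π ^ k) ≠ 0 := fun k => (map_ne_zero_iff _ hinj).mpr (pow_ne_zero k hπ.ne_zero)
  have hb'0 : algebraMap R K b' ≠ 0 := (map_ne_zero_iff _ hinj).mpr (right_ne_zero_of_mul hb0)
  rw [← hab, map_mul, map_mul]
  field_simp [hp n, hp m]
  rw [div_eq_iff (mul_ne_zero (hp n) (hp m))]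
  ring

/-- Prescribing a nonzero element at each of finitely many principal primes. -/
theorem exists_lift (T : Finset R) (hT : ∀ π ∈ T, Prime π)
    (hT' : ∀ π ∈ T, ∀ π' ∈ T, π ≠ π' → ¬ π ∣ π') (c : R → K) (hc : ∀ π ∈ T, c π ≠ 0) :
    ∃ d : K, d ≠ 0 ∧ (∀ π ∈ T, UnitAt (Ideal.span {π}) (c π / d)) ∧
      ∀ π : R, Prime π → (∀ π' ∈ T, ¬ π ∣ π') → UnitAt (Ideal.span {π}) d := by
  classical
  induction T using Finset.induction with
  | empty =>
    refine ⟨1, one_ne_zero, by simp, fun π hπ _ => ?_⟩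
    refine ⟨1, 1, ?_, ?_, by simp⟩ <;>
      exact fun h => hπ.not_isUnit (isUnit_of_dvd_one (Ideal.mem_span_singleton.mp h))
  | insert p T hp ih =>
    obtain ⟨d, hd0, hd, hdo⟩ := ih (fun π h => hT π (Finset.mem_insert_of_mem h))
      (fun π h π' h' => hT' π (Finset.mem_insert_of_mem h) π' (Finset.mem_insert_of_mem h'))
      fun π h => hc π (Finset.mem_insert_of_mem h)
    have hpP := hT p (Finset.mem_insert_self _ _)
    haveI : (Ideal.span {p}).IsPrime := (Ideal.span_singleton_prime hpP.ne_zero).mpr hpP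
    obtain ⟨m, n, h⟩ := exists_pow_unitAt hpP (hc p (Finset.mem_insert_self _ _))
    have hdp : UnitAt (Ideal.span {p}) d := hdo p hpP fun π hπ =>
      hT' p (Finset.mem_insert_self _ _) π (Finset.mem_insert_of_mem hπ) fun h => hp (h ▸ hπ)
    have hinj := IsFractionRing.injective R K
    have hp0 : ∀ k, algebraMap R K (p ^ k) ≠ 0 := fun k => (map_ne_zero_iff _ hinj).mpr (pow_ne_zero k hpP.ne_zero)
    let e := algebraMap R K (p ^ n) / algebraMap R K (p ^ m)
    have he : ∀ π : R, Prime π → ¬ π ∣ p → UnitAt (Ideal.span {π}) e := by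
      intro π hπ hnd
      haveI : (Ideal.span {π}).IsPrime := (Ideal.span_singleton_prime hπ.ne_zero).mpr hπ
      have hn : ∀ k, p ^ k ∉ Ideal.span {π} := fun k h => hnd (hπ.dvd_of_dvd_pow (Ideal.mem_span_singleton.mp h))
      exact ⟨p ^ n, p ^ m, hn n, hn m, div_mul_cancel₀ _ (hp0 m)⟩
    have hne : e ≠ 0 := div_ne_zero (hp0 n) (hp0 m)
    refine ⟨e * d, mul_ne_zero hne hd0, fun π hπ => ?_, fun π hπ h' => ?_⟩
    · rcases Finset.mem_insert.mp hπ with rfl | hπT
      · have := unitAt_mul h (unitAt_inv hdp)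
        convert this using 1
        simp only [e]
        field_simp [hp0 n, hp0 m]
      · have hπ' := hT π hπ
        haveI : (Ideal.span {π}).IsPrime := (Ideal.span_singleton_prime hπ'.ne_zero).mpr hπ'
        have hnd : ¬ π ∣ p := hT' π hπ p (Finset.mem_insert_self _ _) fun h => hp (h ▸ hπT)
        have := unitAt_mul (hd π hπT) (unitAt_inv (he π hπ' hnd))
        convert this using 1
        field_simp
    · haveI : (Ideal.span {π}).IsPrime := (Ideal.span_singleton_prime hπ.ne_zero).mpr hπ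
      exact unitAt_mul (he π hπ (h' p (Finset.mem_insert_self _ _)))
        (hdo π hπ fun π' hπ' => h' π' (Finset.mem_insert_of_mem hπ'))

end UFDExtLib
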