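import Groth.Agent.UFDExtLib.Step

/-!
# A common generator on the punctured local scheme of a factorial point
-/

set_option autoImplicit false
universe u

open CategoryTheory AlgebraicGeometry TopologicalSpace Opposite
open DevissLib (St gm)

noncomputable section

namespace UFDExtLib

variable {X : Scheme.{u}} {G : X.Modules} {V₀ : X.Opens} {W : X.affineOpens} [IsDomain Γ(X, W.1)]

theorem IsU.spec {y z : X} {hy : y ∈ W.1} {hz : z ∈ W.1} (h : y ⤳ z) {u : X.presheaf.stalk (gpt W)}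
    (hu : IsU W hz u) : IsU W hy u := by
  obtain ⟨v, hv, rfl⟩ := hu
  exact ⟨spO h v, hv.map _, spO_comp (gpt_specializes W hy) h v⟩

theorem IsU.mul {z : X} {hz : z ∈ W.1} {u v : X.presheaf.stalk (gpt W)} (hu : IsU W hz u) (hv : IsU W hz v) :
    IsU W hz (u * v) := by
  obtain ⟨a, ha, rfl⟩ := hu
  obtain ⟨b, hb, rfl⟩ := hv
  exact ⟨a * b, ha.mul hb, map_mul _ _ _⟩

theorem exists_punctured_generator (h : Setting G V₀) (E : Ext G V₀) {ε : (St (gpt W)).obj G}
    (hε : Function.Bijective fun c : X.presheaf.stalk (gpt W) => c • ε) {x : X} (hx : x ∈ W.1)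
    (hV : ∀ y, y ⤳ x → y ≠ x → y ∈ E.V) [UniqueFactorizationMonoid (X.presheaf.stalk x)] :
    ∃ d : X.presheaf.stalk (gpt W), d ≠ 0 ∧
      ∀ y (hy : y ∈ W.1), y ⤳ x → y ≠ x → Rep W ε E.S hy d := by
  classical
  let R := X.presheaf.stalk x
  let K := X.presheaf.stalk (gpt W)
  letI : Field K := (isField_gpt W).toField
  letI algR : Algebra R K := (spO (gpt_specializes W hx)).toAlgebra
  letI algA : Algebra Γ(X, W.1) R := X.presheaf.algebra_section_stalk (⟨x, hx⟩ : W.1)
  letI algK : Algebra Γ(X, W.1) K := X.presheaf.algebra_section_stalk (⟨gpt W, gpt_mem W⟩ : W.1)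
  haveI : IsScalarTower Γ(X, W.1) R K :=
    IsScalarTower.of_algebraMap_eq fun a => (spO_germ (gpt_specializes W hx) hx a).symm
  haveI hlR : IsLocalization.AtPrime R (SDivLib.prm W hx) := W.2.isLocalization_stalk ⟨x, hx⟩
  haveI : IsFractionRing Γ(X, W.1) K := isFractionRing_gpt W
  haveI : IsDomain R := (spO_injective W hx).isDomain (spO (gpt_specializes W hx))
  haveI : IsFractionRing R K :=
    IsFractionRing.isFractionRing_of_isDomain_of_isLocalization (SDivLib.prm W hx).primeCompl R K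
  let Q : ∀ {y : X}, y ⤳ x → Ideal R := fun {y} hy =>
    (IsLocalRing.maximalIdeal (X.presheaf.stalk y)).comap (spO hy)
  haveI hQ : ∀ {y : X} (hy : y ⤳ x), (Q hy).IsPrime := fun hy => Ideal.comap_isPrime _ _
  have hQA : ∀ {y : X} (hy : y ⤳ x) (hyW : y ∈ W.1), (Q hy).comap (algebraMap Γ(X, W.1) R) = SDivLib.prm W hyW := by
    intro y hy hyW
    ext a
    rw [SDivLib.mem_prm_iff]
    show spO hy (X.presheaf.germ W.1 x hx a) ∈ IsLocalRing.maximalIdeal _ ↔ _
    rw [spO_germ]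
    rfl
  have toU : ∀ {y : X} (hy : y ⤳ x) (hyW : y ∈ W.1) (u : K), UnitAt (Q hy) u → IsU W hyW u := by
    rintro y hy hyW u ⟨a, b, ha, hb, hu⟩
    have hua : IsUnit (spO hy a) := not_not.mp fun hh => ha hh
    have hub : IsUnit (spO hy b) := not_not.mp fun hh => hb hh
    refine ⟨spO hy a * ↑hub.unit⁻¹, hua.mul hub.unit⁻¹.isUnit, ?_⟩
    have hb' : algebraMap R K b = spO (gpt_specializes W hyW) (spO hy b) :=
      (spO_comp (gpt_specializes W hyW) hy b).symm
    have ha' : algebraMap R K a = spO (gpt_specializes W hyW) (spO hy a) :=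
      (spO_comp (gpt_specializes W hyW) hy a).symm
    rw [map_mul, ← ha', ← hu, hb', mul_assoc, ← map_mul, IsUnit.mul_val_inv, map_one, mul_one]
  have fromU : ∀ {y : X} (hy : y ⤳ x) (hyW : y ∈ W.1) (u : K), IsU W hyW u → UnitAt (Q hy) u := by
    rintro y hy hyW u ⟨v, hv, rfl⟩
    letI := X.presheaf.algebra_section_stalk (⟨y, hyW⟩ : W.1)
    haveI : IsLocalization.AtPrime (X.presheaf.stalk y) (SDivLib.prm W hyW) := W.2.isLocalization_stalk ⟨y, hyW⟩
    obtain ⟨⟨a, s⟩, hs⟩ := IsLocalization.surj (SDivLib.prm W hyW).primeCompl v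
    have hs' : algebraMap Γ(X, W.1) R s ∉ Q hy := fun hh =>
      s.2 ((hQA hy hyW).le (Ideal.mem_comap.mpr hh))
    have ha : algebraMap Γ(X, W.1) R a ∉ Q hy := fun hh => by
      have ha2 : a ∈ SDivLib.prm W hyW := (hQA hy hyW).le (Ideal.mem_comap.mpr hh)
      rw [SDivLib.mem_prm_iff] at ha2
      refine ha2 ?_
      have h2 : IsUnit (v * algebraMap Γ(X, W.1) (X.presheaf.stalk y) s) :=
        hv.mul (IsLocalization.map_units _ s)
      rw [hs] at h2
      exact h2
    refine ⟨_, _, ha, hs', ?_⟩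
    rw [← IsScalarTower.algebraMap_apply, ← IsScalarTower.algebraMap_apply]
    have := congrArg (spO (gpt_specializes W hyW)) hs
    rw [map_mul] at this
    exact (congrArg (_ * ·) (spO_germ (gpt_specializes W hyW) hyW (s : Γ(X, W.1))).symm).trans
      (this.trans (spO_germ (gpt_specializes W hyW) hyW a))
  have hpoint : ∀ π : R, Prime π →
      ∃ (y : X) (hy : y ⤳ x) (_ : y ∈ W.1), Q hy = Ideal.span {π} := by
    intro π hπ
    haveI : (Ideal.span {π}).IsPrime := (Ideal.span_singleton_prime hπ.ne_zero).mpr hπ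
    let P := (Ideal.span {π}).comap (algebraMap Γ(X, W.1) R)
    haveI : P.IsPrime := Ideal.comap_isPrime _ _
    have hle : P ≤ SDivLib.prm W hx := by
      intro a ha
      by_contra hh
      exact ‹(Ideal.span {π}).IsPrime›.ne_top
        (Ideal.eq_top_of_isUnit_mem _ ha (IsLocalization.map_units R (⟨a, hh⟩ : (SDivLib.prm W hx).primeCompl)))
    have hy : pt W P ⤳ x := specializes_of_le W (pt_mem W P) hx (by rw [prm_pt]; exact hle)
    refine ⟨pt W P, hy, pt_mem W P, ?_⟩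
    rw [← IsLocalization.map_comap (SDivLib.prm W hx).primeCompl R (Q hy),
      ← IsLocalization.map_comap (SDivLib.prm W hx).primeCompl R (Ideal.span {π})]
    exact congrArg (Ideal.map (algebraMap Γ(X, W.1) R)) ((hQA hy (pt_mem W P)).trans (prm_pt W P))
  -- a basic open on which `ε` comes from a generator
  obtain ⟨O₀, hξO, hO₀, g₀, hg₀⟩ := h.gens _ (gpt_mem_dense (W := W) h)
  obtain ⟨u₀, hu₀⟩ := hε.2 (gm G (gpt W) hξO g₀)
  dsimp only at hu₀
  have hu₀ne : u₀ ≠ 0 := fun h0 => one_ne_zero ((hg₀.genAt hξO).1 (a₁ := 1) (a₂ := 0) (by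
    show (1 : K) • gm G (gpt W) hξO g₀ = (0 : K) • gm G (gpt W) hξO g₀
    rw [one_smul, zero_smul, ← hu₀, h0, zero_smul]))
  have rep₀ : ∀ z (hzW : z ∈ W.1), z ∈ O₀ → Rep W ε E.S hzW u₀ := fun z hzW hz =>
    ⟨gm G z hz g₀, by
      rw [E.top z (hO₀ hz)]
      exact (eq_top_iff.mpr fun a _ =>
        Submodule.mem_span_singleton.mpr ((hg₀.genAt hz).2 a)).symm,
      (spG_gm G _ hz g₀).trans hu₀.symm⟩
  obtain ⟨r, hrO, hξr⟩ := W.2.exists_basicOpen_le (V := O₀) ⟨gpt W, hξO⟩ (gpt_mem W)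
  have hr : r ≠ 0 := fun h0 => by rw [h0, Scheme.basicOpen_zero] at hξr; exact hξr
  have hrR : algebraMap Γ(X, W.1) R r ≠ 0 := fun h0 => hr (by
    refine IsFractionRing.injective Γ(X, W.1) K ?_
    rw [IsScalarTower.algebraMap_apply Γ(X, W.1) R K, h0, map_zero, map_zero])
  obtain ⟨F, hF, hFr⟩ := UniqueFactorizationMonoid.exists_prime_factors _ hrR
  let T : Finset R := (F.map fun p => Quot.out (Associates.mk p)).toFinset
  have hTmk : ∀ π ∈ T, ∃ π' ∈ F, Associated π π' ∧ Quot.out (Associates.mk π') = π := by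
    intro π hπ
    obtain ⟨π', hπ', rfl⟩ := Multiset.mem_map.mp (Multiset.mem_toFinset.mp hπ)
    exact ⟨π', hπ', Associates.mk_eq_mk_iff_associated.mp (Quot.out_eq _), rfl⟩
  have hT : ∀ π ∈ T, Prime π := fun π hπ => by
    obtain ⟨π', hπ', hass, -⟩ := hTmk π hπ
    exact hass.symm.prime (hF π' hπ')
  have hT' : ∀ π ∈ T, ∀ π' ∈ T, π ≠ π' → ¬ π ∣ π' := by
    intro π hπ π' hπ' hne hdvd
    obtain ⟨a, -, ha, hae⟩ := hTmk π hπ
    obtain ⟨a', -, ha', hae'⟩ := hTmk π' hπ'
    refine hne ?_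
    rw [← hae, ← hae']
    exact congrArg Quot.out (Associates.mk_eq_mk_iff_associated.mpr
      ((ha.symm.trans ((hT π hπ).associated_of_dvd (hT π' hπ') hdvd)).trans ha'))
  have hTr : ∀ π : R, Prime π → π ∣ algebraMap Γ(X, W.1) R r → ∃ π' ∈ T, π ∣ π' := by
    intro π hπ hdvd
    obtain ⟨b, hb, hπb⟩ := Prime.exists_mem_multiset_dvd hπ (hdvd.trans hFr.symm.dvd)
    exact ⟨_, Multiset.mem_toFinset.mpr (Multiset.mem_map.mpr ⟨b, hb, rfl⟩),
      hπb.trans (Associates.mk_eq_mk_iff_associated.mp (Quot.out_eq (Associates.mk b))).symm.dvd⟩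
  -- the prescribed values
  let c : R → K := fun π => if hπ : ∃ u : K, u ≠ 0 ∧ ∀ (y : X) (hy : y ⤳ x) (hyW : y ∈ W.1),
      Q hy = Ideal.span {π} → y ≠ x → Rep W ε E.S hyW u then hπ.choose else 1
  have hc0 : ∀ π, c π ≠ 0 := fun π => by
    by_cases hπ : ∃ u : K, u ≠ 0 ∧ ∀ (y : X) (hy : y ⤳ x) (hyW : y ∈ W.1),
      Q hy = Ideal.span {π} → y ≠ x → Rep W ε E.S hyW u
    · simp only [c, dif_pos hπ]; exact hπ.choose_spec.1
    · simp only [c, dif_neg hπ]; exact one_ne_zero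
  obtain ⟨d, hd, hdT, hdo⟩ := exists_lift (K := K) T hT hT' (fun π => c π / u₀)
    fun π _ => div_ne_zero (hc0 π) hu₀ne
  refine ⟨u₀ * d, mul_ne_zero hu₀ne hd, fun y hyW hy hne => ?_⟩
  obtain ⟨O, u, hyO, hO, hu, hrep⟩ := E.exists_rep h hε (hV y hy hne) hyW
  have key : UnitAt (Q hy) ((u₀ * d) / u) := by
    refine unitAt_of_primes (div_ne_zero (mul_ne_zero hu₀ne hd) hu) fun π hπ hπQ => ?_
    obtain ⟨y', hy', hy'W, hQ'⟩ := hpoint π hπ
    have hsp : y' ⤳ y := specializes_of_le W hy'W hyW (by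
      rw [← hQA hy' hy'W, ← hQA hy hyW, hQ']
      exact Ideal.comap_mono ((Ideal.span_singleton_le_iff_mem _).mpr hπQ))
    have hne' : y' ≠ x := fun e => hne (eq_of_prm_eq W hyW hx (le_antisymm (prm_le_of_specializes W hyW hx hy)
      ((prm_le_of_specializes W hx hyW (e ▸ hsp)))))
    have hy'O : y' ∈ O := hsp.mem_open O.2 hyO
    have hrep' : Rep W ε E.S hy'W u := hrep y' hy'O hy'W
    haveI : (Ideal.span {π}).IsPrime := (Ideal.span_singleton_prime hπ.ne_zero).mpr hπ
    by_cases hπT : ∃ π' ∈ T, π ∣ π'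
    · obtain ⟨π', hπ', hdvd⟩ := hπT
      have hsame : Ideal.span {π} = Ideal.span {π'} :=
        Ideal.span_singleton_eq_span_singleton.mpr (hπ.associated_of_dvd (hT π' hπ') hdvd)
      have hex : ∃ v : K, v ≠ 0 ∧ ∀ (z : X) (hz : z ⤳ x) (hzW : z ∈ W.1),
          Q hz = Ideal.span {π'} → z ≠ x → Rep W ε E.S hzW v := by
        refine ⟨u, hu, fun z hz hzW hzQ _ => ?_⟩
        have : z = y' := eq_of_prm_eq W hzW hy'W (by rw [← hQA hz hzW, ← hQA hy' hy'W, hzQ, hQ', hsame])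
        subst this
        exact hrep'
      have hcrep : Rep W ε E.S hy'W (c π') := by
        have := hex.choose_spec.2 y' hy' hy'W (hQ'.trans hsame) hne'
        simpa only [c, dif_pos hex] using this
      obtain ⟨v, hv, hcv⟩ := hrep'.ratio hε.1 hcrep hu
      have h1 : UnitAt (Ideal.span {π}) v := hQ' ▸ fromU hy' hy'W v hv
      have h2 : UnitAt (Ideal.span {π}) (c π' / u₀ / d) := hsame ▸ hdT π' hπ'
      have h3 := unitAt_mul h1 (unitAt_inv h2)
      convert h3 using 1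
      have hv0 : v ≠ 0 := fun h0 => hc0 π' (by rw [hcv, h0, zero_mul])
      rw [hcv]
      field_simp
      rw [inv_div, mul_div_assoc', mul_div_mul_left _ _ hv0]
    · push Not at hπT
      have hy'r : y' ∈ X.basicOpen r := by
        rw [X.mem_basicOpen r y' hy'W]
        by_contra hh
        have h1 : algebraMap Γ(X, W.1) R r ∈ Q hy' := by
          show r ∈ (Q hy').comap (algebraMap Γ(X, W.1) R)
          rw [hQA hy' hy'W, SDivLib.mem_prm_iff]
          exact hh
        rw [hQ', Ideal.mem_span_singleton] at h1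
        obtain ⟨π', hπ', hd'⟩ := hTr π hπ h1
        exact hπT π' hπ' hd'
      obtain ⟨v, hv, hcv⟩ := hrep'.ratio hε.1 (rep₀ y' hy'W (hrO hy'r)) hu
      have h1 : UnitAt (Ideal.span {π}) v := hQ' ▸ fromU hy' hy'W v hv
      have h3 := unitAt_mul h1 (hdo π hπ hπT)
      convert h3 using 1
      rw [hcv]
      rw [mul_right_comm, mul_div_assoc, div_self hu, mul_one]
  have := (hrep y hyO hyW).mul (toU hy hyW _ key)
  rwa [div_mul_cancel₀ _ hu] at this

end UFDExtLib
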