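import Groth.Agent.UFDExtLib.Point

/-!
# Extending a family of lattices across a point with factorial local ring
-/

set_option autoImplicit false
universe u

open CategoryTheory AlgebraicGeometry TopologicalSpace Opposite
open DevissLib (St gm)
open AmpleLib (res GenAt GenOn)

noncomputable section

namespace UFDExtLib

variable {X : Scheme.{u}} (G : X.Modules) (V₀ : X.Opens)

/-- The section `g` freely generates `S` over `O`. -/
def GenIn (S : ∀ z : X, Submodule (X.presheaf.stalk z) ((St z).obj G)) {O : X.Opens} (g : Γ(G, O)) : Prop :=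
  ∀ (z : X) (hz : z ∈ O), S z = Submodule.span _ {gm G z hz g} ∧
    Function.Injective fun c : X.presheaf.stalk z => c • gm G z hz g

/-- `G` is invertible on `V₀` and determined by it. -/
structure Setting : Prop where
  dense : Dense (V₀ : Set X)
  gens : ∀ y ∈ V₀, ∃ O : X.Opens, y ∈ O ∧ O ≤ V₀ ∧ ∃ g : Γ(G, O), GenOn G g
  ext : ∀ W : X.Opens, Function.Bijective (res G (inf_le_left : W ⊓ V₀ ≤ W))

/-- An invertible extension to the open `V`. -/
structure Ext where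
  V : X.Opens
  le : V₀ ≤ V
  S : ∀ z : X, Submodule (X.presheaf.stalk z) ((St z).obj G)
  top : ∀ z ∈ V₀, S z = ⊤
  gen : ∀ y ∈ V, ∃ O : X.Opens, y ∈ O ∧ O ≤ V ∧ ∃ g : Γ(G, O), GenIn G S g

variable {G V₀}

theorem IsUnit_spO {y z : X} (h : y ⤳ z) {v : X.presheaf.stalk z} (hv : IsUnit v) : IsUnit (spO h v) :=
  hv.map _

section Chart

variable (W : X.affineOpens) [IsDomain Γ(X, W.1)]

/-- `u` is the image of a unit of the local ring at `z`. -/
def IsU {z : X} (hz : z ∈ W.1) (u : X.presheaf.stalk (gpt W)) : Prop :=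
  ∃ v : X.presheaf.stalk z, IsUnit v ∧ spO (gpt_specializes W hz) v = u

/-- `u • ε` is the value at the generic point of a generator of `S z`. -/
def Rep (ε : (St (gpt W)).obj G) (S : ∀ z : X, Submodule (X.presheaf.stalk z) ((St z).obj G))
    {z : X} (hz : z ∈ W.1) (u : X.presheaf.stalk (gpt W)) : Prop :=
  ∃ a : (St z).obj G, S z = Submodule.span _ {a} ∧ spG G (gpt_specializes W hz) a = u • ε

variable {W}

theorem Rep.mul {ε : (St (gpt W)).obj G} {S : ∀ z : X, Submodule (X.presheaf.stalk z) ((St z).obj G)}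
    {z : X} {hz : z ∈ W.1} {u v : X.presheaf.stalk (gpt W)} (h : Rep W ε S hz u) (hv : IsU W hz v) :
    Rep W ε S hz (v * u) := by
  obtain ⟨a, ha, hau⟩ := h
  obtain ⟨w, hw, rfl⟩ := hv
  refine ⟨w • a, ?_, ?_⟩
  · rw [ha, Submodule.span_singleton_smul_eq hw]
  · rw [spG_smul, hau, smul_smul]

theorem Rep.ratio {ε : (St (gpt W)).obj G} (hε : Function.Injective fun c : X.presheaf.stalk (gpt W) => c • ε)
    {S : ∀ z : X, Submodule (X.presheaf.stalk z) ((St z).obj G)}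
    {z : X} {hz : z ∈ W.1} {u u' : X.presheaf.stalk (gpt W)} (h : Rep W ε S hz u) (h' : Rep W ε S hz u')
    (hu : u ≠ 0) : ∃ v, IsU W hz v ∧ u' = v * u := by
  obtain ⟨a, ha, hau⟩ := h
  obtain ⟨a', ha', hau'⟩ := h'
  obtain ⟨v, hv⟩ := Submodule.mem_span_singleton.mp (ha ▸ ha' ▸ Submodule.mem_span_singleton_self a' : a' ∈ Submodule.span _ {a})
  obtain ⟨v', hv'⟩ := Submodule.mem_span_singleton.mp (ha' ▸ ha ▸ Submodule.mem_span_singleton_self a : a ∈ Submodule.span _ {a'})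
  have e1 : spO (gpt_specializes W hz) v * u = u' := hε (by
    show _ • ε = _ • ε
    rw [← smul_smul, ← hau, ← spG_smul, hv, hau'])
  have e2 : spO (gpt_specializes W hz) v' * u' = u := hε (by
    show _ • ε = _ • ε
    rw [← smul_smul, ← hau', ← spG_smul, hv', hau])
  refine ⟨_, ⟨v, ?_, rfl⟩, e1.symm⟩
  have hK := isField_gpt W
  refine isUnit_iff_exists_inv.mpr ⟨v', spO_injective W hz ?_⟩
  obtain ⟨w, hw⟩ := hK.mul_inv_cancel hu
  have e3 : spO (gpt_specializes W hz) v' * spO (gpt_specializes W hz) v * u = u := by rw [mul_assoc, e1, e2]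
  rw [map_mul, map_one, mul_comm, ← mul_one (_ * _), ← hw, ← mul_assoc, e3]

theorem Setting.sp_injective (h : Setting G V₀) {O : X.Opens} (hO : O ≤ W.1) (hξ : gpt W ∈ O) (s : Γ(G, O))
    (hs : gm G (gpt W) hξ s = 0) : s = 0 := by
  refine (h.ext O).1 (TwistLib.mod_ext G fun z hz => ?_)
  rw [show AmpleLib.res G (inf_le_left : O ⊓ V₀ ≤ O) (0 : Γ(G, O)) = 0 from map_zero _]
  rw [map_zero, AmpleLib.germ_res]
  obtain ⟨O', hzO', -, g, hg⟩ := h.gens z hz.2
  obtain ⟨c, hc⟩ := (hg.genAt hzO').2 (G.presheaf.germ O z hz.1 s)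
  have hsp := gpt_specializes W (hO hz.1)
  have h1 := congrArg (spG G hsp) hc
  rw [show spG G hsp (G.presheaf.germ O z hz.1 s) = gm G (gpt W) hξ s from spG_gm G hsp hz.1 s, hs] at h1
  have h2 : spG G hsp (c • gm G z hzO' g) = 0 := h1
  rw [spG_smul, spG_gm] at h2
  have h3 : spO hsp c = 0 := (hg.genAt (hsp.mem_open O'.2 hzO')).1
    (h2.trans (zero_smul _ _).symm)
  rw [spO_injective W (hO hz.1) (h3.trans (map_zero _).symm)] at hc
  exact hc.symm.trans (zero_smul _ _)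

theorem Setting.spG_injective (h : Setting G V₀) {z : X} (hz : z ∈ W.1) :
    Function.Injective (spG G (gpt_specializes W hz)) := by
  intro a a' e
  obtain ⟨U, hU, s, rfl⟩ := DevissLib.exists_gm_eq G z a
  obtain ⟨U', hU', s', rfl⟩ := DevissLib.exists_gm_eq G z a'
  let O := U ⊓ U' ⊓ W.1
  have hO : z ∈ O := ⟨⟨hU, hU'⟩, hz⟩
  have h₁ : O ≤ U := inf_le_left.trans inf_le_left
  have h₂ : O ≤ U' := inf_le_left.trans inf_le_right
  have hξ := (gpt_specializes W hz).mem_open O.2 hO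
  rw [spG_gm, spG_gm] at e
  have h0 : AmpleLib.res G h₁ s - AmpleLib.res G h₂ s' = 0 :=
    h.sp_injective inf_le_right hξ _ ((map_sub (G.presheaf.germ O (gpt W) hξ).hom _ _).trans (sub_eq_zero.mpr
      (((DevissLib.gm_map G h₁ _ hξ s)).trans (e.trans (DevissLib.gm_map G h₂ _ hξ s').symm))))
  have h1 := congrArg (fun t => gm G z hO t) (sub_eq_zero.mp h0)
  exact (DevissLib.gm_map G h₁ z hO s).symm.trans (h1.trans (DevissLib.gm_map G h₂ z hO s'))

theorem gpt_mem_dense (h : Setting G V₀) : gpt W ∈ V₀ := by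
  obtain ⟨u, huW, hu⟩ := h.dense.inter_open_nonempty _ W.1.2 ⟨gpt W, gpt_mem W⟩
  exact (gpt_specializes W huW).mem_open V₀.2 hu

theorem Setting.exists_basis (h : Setting G V₀) :
    ∃ ε : (St (gpt W)).obj G, Function.Bijective fun c : X.presheaf.stalk (gpt W) => c • ε := by
  obtain ⟨O, hO, -, g, hg⟩ := h.gens _ (gpt_mem_dense (W := W) h)
  exact ⟨gm G (gpt W) hO g, hg.genAt hO⟩

theorem Ext.exists_rep (E : Ext G V₀) (h : Setting G V₀) {ε : (St (gpt W)).obj G}
    (hε : Function.Bijective fun c : X.presheaf.stalk (gpt W) => c • ε) {y : X} (hy : y ∈ E.V) (hyW : y ∈ W.1) :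
    ∃ (O : X.Opens) (u : X.presheaf.stalk (gpt W)), y ∈ O ∧ O ≤ E.V ⊓ W.1 ∧ u ≠ 0 ∧
      ∀ (z : X) (_ : z ∈ O) (hzW : z ∈ W.1), Rep W ε E.S hzW u := by
  obtain ⟨O, hyO, hO, g, hg⟩ := E.gen y hy
  have hξ : gpt W ∈ O := (gpt_specializes W hyW).mem_open O.2 hyO
  obtain ⟨u, hu⟩ := hε.2 (gm G (gpt W) hξ g)
  dsimp only at hu
  refine ⟨O ⊓ W.1, u, ⟨hyO, hyW⟩, inf_le_inf_right _ hO, fun h0 => ?_,
    fun z hz hzW => ⟨gm G z hz.1 g, (hg z hz.1).1, (spG_gm G _ hz.1 g).trans hu.symm⟩⟩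
  haveI : Nontrivial (X.presheaf.stalk (gpt W)) := inferInstance
  refine one_ne_zero ((hg _ hξ).2 (a₁ := 1) (a₂ := 0) ?_)
  show (1 : X.presheaf.stalk (gpt W)) • gm G (gpt W) hξ g = (0 : X.presheaf.stalk (gpt W)) • gm G (gpt W) hξ g
  rw [one_smul, zero_smul, ← hu, h0, zero_smul]

end Chart

end UFDExtLib
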